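import Mathlib.Algebra.Homology.DerivedCategory.ExactFunctor

/-! Full faithfulness on derived categories from a retraction and two comparison transformations. -/

universe w₁ w₂ v₁ v₂ u₁ u₂

open CategoryTheory CategoryTheory.Limits

namespace Groth.FibDescSec

variable {A : Type u₁} [Category.{v₁} A] [Abelian A] [HasDerivedCategory.{w₁} A]
  {B : Type u₂} [Category.{v₂} B] [Abelian B] [HasDerivedCategory.{w₂} B]
  (θ : A ⥤ B) [θ.Additive] [PreservesFiniteLimits θ] [PreservesFiniteColimits θ]
  (S : B ⥤ A) [S.Additive] [PreservesFiniteLimits S] [PreservesFiniteColimits S]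
  (T : B ⥤ B) [T.Additive] [PreservesFiniteLimits T] [PreservesFiniteColimits T]

noncomputable def mapFactorsComp {C : Type*} [Category C] [Abelian C] [HasDerivedCategory C]
    {D : Type*} [Category D] [Abelian D] [HasDerivedCategory D]
    {E : Type*} [Category E] [Abelian E] [HasDerivedCategory E]
    (F : C ⥤ D) [F.Additive] [PreservesFiniteLimits F] [PreservesFiniteColimits F]
    (G : D ⥤ E) [G.Additive] [PreservesFiniteLimits G] [PreservesFiniteColimits G] :
    DerivedCategory.Q ⋙ (F.mapDerivedCategory ⋙ G.mapDerivedCategory) ≅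
      (F ⋙ G).mapHomologicalComplex (ComplexShape.up ℤ) ⋙ DerivedCategory.Q :=
  (Functor.associator _ _ _).symm ≪≫ Functor.isoWhiskerRight F.mapDerivedCategoryFactors _ ≪≫
    Functor.associator _ _ _ ≪≫ Functor.isoWhiskerLeft _ G.mapDerivedCategoryFactors ≪≫
    (Functor.associator _ _ _).symm ≪≫
    Functor.isoWhiskerRight (F.mapHomologicalComplexCompIso (Iso.refl (F ⋙ G)) _) _

theorem bijective_mapDerivedCategory (u : 𝟭 A ≅ θ ⋙ S) (η : 𝟭 B ⟶ T) (ζ : S ⋙ θ ⟶ T)
    [hη : ∀ X, IsIso (η.app (θ.obj X))] [hζ : ∀ X, IsIso (ζ.app (θ.obj X))]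
    (K L : DerivedCategory A) :
    Function.Bijective fun g : K ⟶ L => θ.mapDerivedCategory.map g := by
  let QA : CochainComplex A ℤ ⥤ DerivedCategory A := DerivedCategory.Q
  let QB : CochainComplex B ℤ ⥤ DerivedCategory B := DerivedCategory.Q
  let WA := HomologicalComplex.quasiIso A (ComplexShape.up ℤ)
  let WB := HomologicalComplex.quasiIso B (ComplexShape.up ℤ)
  haveI : Localization.Lifting QA WA
      ((θ ⋙ S).mapHomologicalComplex (ComplexShape.up ℤ) ⋙ DerivedCategory.Q)
      (θ.mapDerivedCategory ⋙ S.mapDerivedCategory) := ⟨mapFactorsComp θ S⟩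
  haveI : Localization.Lifting QA WA
      ((𝟭 A).mapHomologicalComplex (ComplexShape.up ℤ) ⋙ DerivedCategory.Q)
      (𝟭 (DerivedCategory A)) :=
    ⟨Functor.rightUnitor _ ≪≫ (Functor.leftUnitor _).symm ≪≫
      Functor.isoWhiskerRight (Functor.mapHomologicalComplexIdIso A _).symm _⟩
  haveI : Localization.Lifting QB WB
      ((S ⋙ θ).mapHomologicalComplex (ComplexShape.up ℤ) ⋙ DerivedCategory.Q)
      (S.mapDerivedCategory ⋙ θ.mapDerivedCategory) := ⟨mapFactorsComp S θ⟩
  haveI : Localization.Lifting QB WB
      ((𝟭 B).mapHomologicalComplex (ComplexShape.up ℤ) ⋙ DerivedCategory.Q)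
      (𝟭 (DerivedCategory B)) :=
    ⟨Functor.rightUnitor _ ≪≫ (Functor.leftUnitor _).symm ≪≫
      Functor.isoWhiskerRight (Functor.mapHomologicalComplexIdIso B _).symm _⟩
  let uD : 𝟭 (DerivedCategory A) ≅ θ.mapDerivedCategory ⋙ S.mapDerivedCategory :=
    Localization.liftNatIso QA WA
      ((𝟭 A).mapHomologicalComplex (ComplexShape.up ℤ) ⋙ DerivedCategory.Q)
      ((θ ⋙ S).mapHomologicalComplex (ComplexShape.up ℤ) ⋙ DerivedCategory.Q) _ _
      (Functor.isoWhiskerRight (NatIso.mapHomologicalComplex u _) _)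
  let ηD : 𝟭 (DerivedCategory B) ⟶ T.mapDerivedCategory :=
    Localization.liftNatTrans QB WB
      ((𝟭 B).mapHomologicalComplex (ComplexShape.up ℤ) ⋙ DerivedCategory.Q)
      (T.mapHomologicalComplex (ComplexShape.up ℤ) ⋙ DerivedCategory.Q) _ _
      (Functor.whiskerRight (NatTrans.mapHomologicalComplex η _) _)
  let ζD : S.mapDerivedCategory ⋙ θ.mapDerivedCategory ⟶ T.mapDerivedCategory :=
    Localization.liftNatTrans QB WB
      ((S ⋙ θ).mapHomologicalComplex (ComplexShape.up ℤ) ⋙ DerivedCategory.Q)
      (T.mapHomologicalComplex (ComplexShape.up ℤ) ⋙ DerivedCategory.Q) _ _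
      (Functor.whiskerRight (NatTrans.mapHomologicalComplex ζ _) _)
  have hiso : ∀ K : DerivedCategory A, IsIso (ηD.app (θ.mapDerivedCategory.obj K)) ∧
      IsIso (ζD.app (θ.mapDerivedCategory.obj K)) := by
    intro K
    let X := (DerivedCategory.Q (C := A)).objPreimage K
    let e : θ.mapDerivedCategory.obj K ≅
        QB.obj ((θ.mapHomologicalComplex (ComplexShape.up ℤ)).obj X) :=
      θ.mapDerivedCategory.mapIso ((DerivedCategory.Q (C := A)).objObjPreimageIso K).symm ≪≫
        θ.mapDerivedCategoryFactors.app X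
    constructor
    · rw [NatTrans.isIso_app_iff_of_iso ηD e, Localization.liftNatTrans_app]
      haveI : IsIso ((NatTrans.mapHomologicalComplex η (ComplexShape.up ℤ)).app
          ((θ.mapHomologicalComplex (ComplexShape.up ℤ)).obj X)) := by
        haveI : ∀ i, IsIso (((NatTrans.mapHomologicalComplex η (ComplexShape.up ℤ)).app
          ((θ.mapHomologicalComplex (ComplexShape.up ℤ)).obj X)).f i) := fun i => hη (X.X i)
        exact HomologicalComplex.Hom.isIso_of_components _
      rw [Functor.whiskerRight_app]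
      infer_instance
    · rw [NatTrans.isIso_app_iff_of_iso ζD e, Localization.liftNatTrans_app]
      haveI : IsIso ((NatTrans.mapHomologicalComplex ζ (ComplexShape.up ℤ)).app
          ((θ.mapHomologicalComplex (ComplexShape.up ℤ)).obj X)) := by
        haveI : ∀ i, IsIso (((NatTrans.mapHomologicalComplex ζ (ComplexShape.up ℤ)).app
          ((θ.mapHomologicalComplex (ComplexShape.up ℤ)).obj X)).f i) := fun i => hζ (X.X i)
        exact HomologicalComplex.Hom.isIso_of_components _
      rw [Functor.whiskerRight_app]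
      infer_instance
  haveI := fun K => (hiso K).1
  haveI := fun K => (hiso K).2
  have hS : Function.Injective fun φ : θ.mapDerivedCategory.obj K ⟶ θ.mapDerivedCategory.obj L =>
      S.mapDerivedCategory.map φ := by
    intro φ ψ h
    have key : ∀ χ : θ.mapDerivedCategory.obj K ⟶ θ.mapDerivedCategory.obj L,
        χ = ηD.app _ ≫ inv (ζD.app _) ≫ θ.mapDerivedCategory.map (S.mapDerivedCategory.map χ) ≫
          ζD.app _ ≫ inv (ηD.app _) := by
      intro χ
      have h1 := ηD.naturality χ
      have h2 := ζD.naturality χ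
      simp only [Functor.id_map, Functor.comp_map] at h1 h2
      erw [reassoc_of% h2]
      simp only [IsIso.inv_hom_id_assoc]
      erw [← reassoc_of% h1]
      simp
    rw [key φ, key ψ]
    simp only at h
    rw [h]
  have hc : Function.Bijective fun g : K ⟶ L =>
      S.mapDerivedCategory.map (θ.mapDerivedCategory.map g) := by
    have he : (fun g : K ⟶ L => S.mapDerivedCategory.map (θ.mapDerivedCategory.map g)) =
        fun g : K ⟶ L => (Iso.homCongr (uD.app K) (uD.app L)) g := by
      funext g
      have h := uD.hom.naturality g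
      simp only [Functor.id_map, Functor.comp_map] at h
      simp [Iso.homCongr, h]
    rw [he]
    exact (Iso.homCongr (uD.app K) (uD.app L)).bijective
  exact ⟨fun a b h => hc.1 (congrArg S.mapDerivedCategory.map h),
    fun φ => (hc.2 (S.mapDerivedCategory.map φ)).imp fun g hg => hS hg⟩

end Groth.FibDescSec
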