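import Mathlib.CategoryTheory.Sites.CoverLifting
import Mathlib.CategoryTheory.Sites.Pullback
import Mathlib.CategoryTheory.Adjunction.Triple
import Mathlib.CategoryTheory.Adjunction.FullyFaithful
import Mathlib.CategoryTheory.Limits.Shapes.IsTerminal

/-! Augmented sites with an extra degeneracy: the comparison maps on sheaves. -/

universe w' w v₀ v₁ v₂ v₃ u₀ u₁ u₂ u₃

open CategoryTheory CategoryTheory.Limits Opposite

namespace Groth.FibDescSec

variable {A : Type w} [Category.{w'} A]
  {C₀ : Type u₀} [Category.{v₀} C₀] {C : Type u₁} [Category.{v₁} C]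
  {P : Type u₂} [Category.{v₂} P] {G : Type u₃} [Category.{v₃} G]
  {J₀ : GrothendieckTopology C₀} {J : GrothendieckTopology C}
  {JP : GrothendieckTopology P} {JG : GrothendieckTopology G}

section Unit

variable (a : G ⥤ P) (b : G ⥤ C) (j : P ⥤ C) (d : P ⥤ G) (τ : d ⋙ a ⟶ 𝟭 P) (ι : d ⋙ b ≅ j)
  [a.IsContinuous JG JP] [b.IsContinuous JG J] [j.IsContinuous JP J]
  [(b.sheafPushforwardContinuous A JG J).IsRightAdjoint]

/-- The map `M ⟶ j_* b^* a_* M` given by the section `d`. -/
noncomputable def etaGen :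
    𝟭 (Sheaf JP A) ⟶ a.sheafPushforwardContinuous A JG JP ⋙ b.sheafPullback A JG J ⋙
      j.sheafPushforwardContinuous A JP J where
  app M := ⟨Functor.whiskerRight (NatTrans.op τ) M.obj ≫
    Functor.whiskerLeft d.op (((b.sheafAdjunctionContinuous A JG J).unit.app
      ((a.sheafPushforwardContinuous A JG JP).obj M)).hom) ≫
    Functor.whiskerRight (NatTrans.op ι.inv)
      ((b.sheafPullback A JG J).obj ((a.sheafPushforwardContinuous A JG JP).obj M)).obj⟩
  naturality M N f := by
    apply Sheaf.hom_ext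
    ext X
    have h := congr_app (congrArg (fun q => q.hom) ((b.sheafAdjunctionContinuous A JG J).unit.naturality
      ((a.sheafPushforwardContinuous A JG JP).map f))) (d.op.obj X)
    change f.hom.app _ ≫ N.obj.map (τ.app X.unop).op ≫ _ ≫ _ = (M.obj.map (τ.app X.unop).op ≫ _ ≫ _) ≫ _
    erw [← reassoc_of% (f.hom.naturality (τ.app X.unop).op)]
    simp only [Category.assoc]
    congr 1
    simp only [Functor.id_map, Functor.comp_map] at h
    refine ((Category.assoc _ _ _).symm.trans (congrArg (· ≫ _) h)).trans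
      ((Category.assoc _ _ _).trans ?_)
    congr 1
    exact (((b.sheafPullback A JG J).map
      ((a.sheafPushforwardContinuous A JG JP).map f)).hom.naturality (ι.inv.app X.unop).op).symm

lemma etaGen_app_app (M : Sheaf JP A) (X : Pᵒᵖ) :
    ((etaGen a b j d τ ι (J := J) (JG := JG)).app M).hom.app X =
      M.obj.map (τ.app X.unop).op ≫
      ((b.sheafAdjunctionContinuous A JG J).unit.app
        ((a.sheafPushforwardContinuous A JG JP).obj M)).hom.app (op (d.obj X.unop)) ≫
      ((b.sheafPullback A JG J).obj ((a.sheafPushforwardContinuous A JG JP).obj M)).obj.map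
        (ι.inv.app X.unop).op := rfl

end Unit

section Base

variable (e : C₀ ⥤ C) [e.IsContinuous J₀ J] [e.IsCocontinuous J₀ J]
  [(e.sheafPushforwardContinuous A J₀ J).IsRightAdjoint]
  [∀ (F : C₀ᵒᵖ ⥤ A), e.op.HasPointwiseRightKanExtension F] [e.Full] [e.Faithful]

/-- Extension along a fully faithful continuous and cocontinuous functor is fully faithful. -/
noncomputable def fullyFaithful_sheafPullback : (e.sheafPullback A J₀ J).FullyFaithful :=
  letI t : Adjunction.Triple (e.sheafPullback A J₀ J) (e.sheafPushforwardContinuous A J₀ J)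
      (e.sheafPushforwardCocontinuous A J₀ J) :=
    ⟨e.sheafAdjunctionContinuous A J₀ J, e.sheafAdjunctionCocontinuous A J₀ J⟩
  haveI : IsIso t.adj₂.counit := by
    haveI : ∀ F, IsIso (t.adj₂.counit.app F) := fun F => by
      rw [← isIso_iff_of_reflects_iso _ (sheafToPresheaf J₀ A)]
      change IsIso ((e.sheafAdjunctionCocontinuous A J₀ J).counit.app F).hom
      rw [Functor.sheafAdjunctionCocontinuous_counit_app_hom]
      rw [Functor.ranAdjunction_counit]
      haveI : ∀ X, IsIso ((e.op.ranCounit.app F.obj).app X) := fun X =>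
        (e.op.isPointwiseRightKanExtensionRanCounit F.obj (e.op.obj X)).isIso_hom_app
      exact @NatIso.isIso_of_isIso_app _ _ _ _ _ _ _ this
    exact NatIso.isIso_of_isIso_app _
  t.fullyFaithfulEquiv.symm t.adj₂.fullyFaithfulROfIsIsoCounit

end Base

section Main

variable (e : C₀ ⥤ C) (k : G ⥤ C) (b : G ⥤ C) (d : C ⥤ G) (τ : d ⋙ k ⟶ 𝟭 C) (ι : d ⋙ b ≅ 𝟭 C)
  [e.IsContinuous J₀ J] [e.IsCocontinuous J₀ J]
  [(e.sheafPushforwardContinuous A J₀ J).IsRightAdjoint]
  [∀ (F : C₀ᵒᵖ ⥤ A), e.op.HasPointwiseRightKanExtension F] [e.Full] [e.Faithful]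
  [k.IsContinuous JG J] [k.IsCocontinuous JG J]
  [∀ (F : Gᵒᵖ ⥤ A), k.op.HasPointwiseRightKanExtension F]
  [b.IsContinuous JG J] [(b.sheafPushforwardContinuous A JG J).IsRightAdjoint]
  [(e ⋙ d).IsContinuous J₀ JG] [((e ⋙ d).sheafPushforwardContinuous A J₀ JG).IsRightAdjoint]
  (hT : ∀ (U : C₀) (X : G) (g : k.obj X ⟶ e.obj U),
    ∃! f : X ⟶ d.obj (e.obj U), k.map f ≫ τ.app (e.obj U) = g)

/-- Restriction to the base compared with restriction through the section. -/
noncomputable def rhoMap : e.sheafPushforwardContinuous A J₀ J ⟶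
    k.sheafPushforwardContinuous A JG J ⋙ (e ⋙ d).sheafPushforwardContinuous A J₀ JG where
  app N := ⟨Functor.whiskerLeft e.op (Functor.whiskerRight (NatTrans.op τ) N.obj)⟩
  naturality M N f := by
    apply Sheaf.hom_ext
    ext X
    simp
    exact (f.hom.naturality (τ.app (e.obj X.unop)).op).symm

/-- Right adjoint comparison. -/
noncomputable def kappa : k.sheafPushforwardCocontinuous A JG J ⋙
    e.sheafPushforwardContinuous A J₀ J ⟶ (e ⋙ d).sheafPushforwardContinuous A J₀ JG :=
  Functor.whiskerLeft _ (rhoMap e k d τ) ≫ (Functor.associator _ _ _).inv ≫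
    Functor.whiskerRight (k.sheafAdjunctionCocontinuous A JG J).counit _ ≫
    (Functor.leftUnitor _).hom

include hT in
lemma isIso_kappa : IsIso (kappa (A := A) (J₀ := J₀) (J := J) (JG := JG) e k d τ) := by
  suffices ∀ M, IsIso ((kappa (A := A) (J₀ := J₀) (J := J) (JG := JG) e k d τ).app M) from
    NatIso.isIso_of_isIso_app _
  intro M
  rw [← isIso_iff_of_reflects_iso _ (sheafToPresheaf J₀ A)]
  suffices ∀ U, IsIso (((kappa (A := A) (J₀ := J₀) (J := J) (JG := JG) e k d τ).app M).hom.app U)
    from NatIso.isIso_of_isIso_app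
      ((kappa (A := A) (J₀ := J₀) (J := J) (JG := JG) e k d τ).app M).hom
  intro U
  let h := k.op.isPointwiseRightKanExtensionRanCounit M.obj (op (e.obj U.unop))
  let X₀ : StructuredArrow (op (e.obj U.unop)) k.op :=
    StructuredArrow.mk (Y := op (d.obj (e.obj U.unop))) (τ.app (e.obj U.unop)).op
  have hI : IsInitial X₀ := by
    refine IsInitial.ofUniqueHom (fun X => StructuredArrow.homMk
      (hT U.unop X.right.unop X.hom.unop).choose.op ?_) ?_
    · apply Quiver.Hom.unop_inj
      exact (hT U.unop X.right.unop X.hom.unop).choose_spec.1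
    · intro X m
      apply StructuredArrow.hom_ext
      apply Quiver.Hom.unop_inj
      exact (hT U.unop X.right.unop X.hom.unop).choose_spec.2 _
        (congrArg Quiver.Hom.unop (StructuredArrow.w m))
  have key : ((kappa (A := A) (J₀ := J₀) (J := J) (JG := JG) e k d τ).app M).hom.app U =
      ((Functor.RightExtension.mk _ (k.op.ranCounit.app M.obj)).coneAt
        (op (e.obj U.unop))).π.app X₀ := by
    simp [kappa, rhoMap, X₀, Functor.RightExtension.coneAt,
      Functor.sheafAdjunctionCocontinuous_counit_app_hom, Functor.ranAdjunction_counit]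
    rfl
  rw [key]
  exact IsLimit.isIso_π_app_of_isInitial h _ hI

include hT in
/-- The transposed base change `(e ⋙ d)^* L ≅ k_* e^* L`. -/
noncomputable def baseAdj :
    e.sheafPullback A J₀ J ⋙ k.sheafPushforwardContinuous A JG J ⊣
      (e ⋙ d).sheafPushforwardContinuous A J₀ JG :=
  haveI := isIso_kappa (A := A) (J₀ := J₀) (J := J) (JG := JG) e k d τ hT
  ((e.sheafAdjunctionContinuous A J₀ J).comp (k.sheafAdjunctionCocontinuous A JG J)).ofNatIsoRight
    (asIso (kappa e k d τ))

include hT in
lemma baseAdj_unit (L : Sheaf J₀ A) :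
    (baseAdj (JG := JG) (J := J) e k d τ hT).unit.app L =
      (e.sheafAdjunctionContinuous A J₀ J).unit.app L ≫
        (rhoMap (J₀ := J₀) (J := J) (JG := JG) e k d τ).app
          ((e.sheafPullback A J₀ J).obj L) := by
  rw [← Adjunction.homEquiv_id (baseAdj (JG := JG) (J := J) e k d τ hT), baseAdj,
    Adjunction.homEquiv_ofNatIsoRight_apply, Adjunction.homEquiv_id, Adjunction.comp_unit_app]
  have h := (rhoMap (A := A) (J₀ := J₀) (J := J) (JG := JG) e k d τ).naturality
    ((k.sheafAdjunctionCocontinuous A JG J).unit.app ((e.sheafPullback A J₀ J).obj L))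
  simp only [Functor.comp_map] at h
  simp [kappa, reassoc_of% h, ← Functor.map_comp]

/-- The comparison `b_* ⋙ (e ⋙ d)_* ≅ e_*`. -/
noncomputable def cIso : b.sheafPushforwardContinuous A JG J ⋙
    (e ⋙ d).sheafPushforwardContinuous A J₀ JG ≅ e.sheafPushforwardContinuous A J₀ J :=
  NatIso.ofComponents
    (fun N => (fullyFaithfulSheafToPresheaf J₀ A).preimageIso
      (Functor.isoWhiskerLeft e.op (Functor.isoWhiskerRight (NatIso.op ι.symm) N.obj)))
    (fun {M N} f => by
      apply Sheaf.hom_ext
      ext X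
      simp
      exact (f.hom.naturality (ι.inv.app (e.obj X.unop)).op).symm)

/-- The map `η⁺ : N ⟶ b^* k_* N`. -/
noncomputable def etaPlus : 𝟭 (Sheaf J A) ⟶
    k.sheafPushforwardContinuous A JG J ⋙ b.sheafPullback A JG J :=
  etaGen k b (𝟭 C) d τ ι

lemma map_etaPlus (N : Sheaf J A) :
    (e.sheafPushforwardContinuous A J₀ J).map ((etaPlus (JG := JG) k b d τ ι).app N) =
      (rhoMap (J₀ := J₀) (J := J) (JG := JG) e k d τ).app N ≫
      ((e ⋙ d).sheafPushforwardContinuous A J₀ JG).map
        ((b.sheafAdjunctionContinuous A JG J).unit.app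
          ((k.sheafPushforwardContinuous A JG J).obj N)) ≫
      (cIso e b d ι).hom.app ((b.sheafPullback A JG J).obj
        ((k.sheafPushforwardContinuous A JG J).obj N)) := by
  rfl

include hT in
/-- `η⁺` is an isomorphism on the image of the extension from the base. -/
theorem isIso_etaPlus_app (L : Sheaf J₀ A) :
    IsIso ((etaPlus (JG := JG) k b d τ ι).app ((e.sheafPullback A J₀ J).obj L)) := by
  let E := e ⋙ d
  let adjE := E.sheafAdjunctionContinuous A J₀ JG
  let adjB := b.sheafAdjunctionContinuous A JG J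
  let adje := e.sheafAdjunctionContinuous A J₀ J
  let adj₂ := baseAdj (A := A) (J₀ := J₀) (JG := JG) (J := J) e k d τ hT
  let β := adjE.leftAdjointUniq adj₂
  let adj₃ := (adjE.comp adjB).ofNatIsoRight (cIso (A := A) (J₀ := J₀) e b d ι)
  let γ := adje.leftAdjointUniq adj₃
  have hff := fullyFaithful_sheafPullback (A := A) (J₀ := J₀) (J := J) e
  haveI := hff.full
  haveI := hff.faithful
  haveI : ∀ M, IsIso (adje.unit.app M) := fun M => inferInstance
  let T := (b.sheafPullback A JG J).obj ((k.sheafPushforwardContinuous A JG J).obj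
    ((e.sheafPullback A J₀ J).obj L))
  let iT : T ≅ (e.sheafPullback A J₀ J).obj L :=
    (b.sheafPullback A JG J).mapIso (β.app L).symm ≪≫ (γ.app L).symm
  set m := (etaPlus (JG := JG) k b d τ ι).app ((e.sheafPullback A J₀ J).obj L) with hm
  have hx : adje.unit.app L ≫ (e.sheafPushforwardContinuous A J₀ J).map m =
      adj₃.unit.app L ≫ (e.sheafPushforwardContinuous A J₀ J).map
        ((b.sheafPullback A JG J).map (β.hom.app L)) := by
    have h1 := baseAdj_unit (A := A) (J₀ := J₀) (JG := JG) (J := J) e k d τ hT L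
    rw [map_etaPlus, ← reassoc_of% h1]
    rw [← adjE.unit_leftAdjointUniq_hom_app adj₂ L]
    have h2 : β.hom.app L ≫ adjB.unit.app _ =
        adjB.unit.app _ ≫ (b.sheafPushforwardContinuous A JG J).map
          ((b.sheafPullback A JG J).map (β.hom.app L)) := adjB.unit.naturality (β.hom.app L)
    have h3 := (cIso (A := A) (J₀ := J₀) (JG := JG) (J := J) e b d ι).hom.naturality
      ((b.sheafPullback A JG J).map (β.hom.app L))
    have h4 : adj₃.unit.app L = adjE.unit.app L ≫
        (E.sheafPushforwardContinuous A J₀ JG).map (adjB.unit.app _) ≫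
        (cIso (A := A) (J₀ := J₀) e b d ι).hom.app _ := by
      rw [← Adjunction.homEquiv_id adj₃]
      simp only [adj₃, Adjunction.homEquiv_ofNatIsoRight_apply, Adjunction.homEquiv_id,
        Adjunction.comp_unit_app, Category.assoc]
      rfl
    rw [h4]
    simp only [Category.assoc]
    rw [← h3]
    simp only [Functor.comp_map]
    have h2' := congrArg (E.sheafPushforwardContinuous A J₀ JG).map h2
    rw [Functor.map_comp, Functor.map_comp] at h2'
    erw [← reassoc_of% h2']
    rfl
  haveI : IsIso (adj₃.unit.app L) := by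
    rw [← adje.unit_leftAdjointUniq_hom_app adj₃ L]
    infer_instance
  haveI : IsIso ((e.sheafPushforwardContinuous A J₀ J).map m) := by
    haveI : IsIso (adje.unit.app L ≫ (e.sheafPushforwardContinuous A J₀ J).map m) := by
      rw [hx]; infer_instance
    exact IsIso.of_isIso_comp_left (adje.unit.app L) _
  have : IsIso (m ≫ iT.hom) := by
    obtain ⟨f, hf⟩ := hff.map_surjective (m ≫ iT.hom)
    rw [← hf]
    suffices IsIso f from inferInstance
    have hn := adje.unit.naturality f
    simp only [Functor.id_map, Functor.comp_map, hf, Functor.map_comp] at hn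
    haveI : IsIso (f ≫ adje.unit.app L) := by rw [hn]; infer_instance
    exact IsIso.of_isIso_comp_right f (adje.unit.app L)
  exact IsIso.of_isIso_comp_right m iT.hom

end Main

section Functors

variable (e : C₀ ⥤ C) (j : P ⥤ C) (a : G ⥤ P) (b : G ⥤ C) (d : C ⥤ G)
  (τ : d ⋙ (a ⋙ j) ⟶ 𝟭 C) (τP : (j ⋙ d) ⋙ a ⟶ 𝟭 P) (ι : d ⋙ b ≅ 𝟭 C)
  (hτ : ∀ X, j.map (τP.app X) = τ.app (j.obj X))
  [e.IsContinuous J₀ J] [e.IsCocontinuous J₀ J]
  [(e.sheafPushforwardContinuous A J₀ J).IsRightAdjoint]
  [∀ (F : C₀ᵒᵖ ⥤ A), e.op.HasPointwiseRightKanExtension F] [e.Full] [e.Faithful]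
  [j.IsContinuous JP J] [a.IsContinuous JG JP]
  [(a ⋙ j).IsContinuous JG J] [(a ⋙ j).IsCocontinuous JG J]
  [∀ (F : Gᵒᵖ ⥤ A), (a ⋙ j).op.HasPointwiseRightKanExtension F]
  [b.IsContinuous JG J] [(b.sheafPushforwardContinuous A JG J).IsRightAdjoint]
  [(e ⋙ d).IsContinuous J₀ JG] [((e ⋙ d).sheafPushforwardContinuous A J₀ JG).IsRightAdjoint]
  (hT : ∀ (U : C₀) (X : G) (g : (a ⋙ j).obj X ⟶ e.obj U),
    ∃! f : X ⟶ d.obj (e.obj U), (a ⋙ j).map f ≫ τ.app (e.obj U) = g)

/-- The transformation `η`. -/
noncomputable def etaPart : 𝟭 (Sheaf JP A) ⟶ a.sheafPushforwardContinuous A JG JP ⋙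
    b.sheafPullback A JG J ⋙ j.sheafPushforwardContinuous A JP J :=
  etaGen a b j (j ⋙ d) τP
    (Functor.associator _ _ _ ≪≫ Functor.isoWhiskerLeft j ι ≪≫ Functor.rightUnitor _)

/-- The transformation `ζ`. -/
noncomputable def zeta :
    (a.sheafPushforwardContinuous A JG JP ⋙ b.sheafPullback A JG J ⋙
      e.sheafPushforwardContinuous A J₀ J) ⋙
      (e.sheafPullback A J₀ J ⋙ j.sheafPushforwardContinuous A JP J) ⟶
    a.sheafPushforwardContinuous A JG JP ⋙ b.sheafPullback A JG J ⋙
      j.sheafPushforwardContinuous A JP J :=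
  Functor.whiskerLeft (a.sheafPushforwardContinuous A JG JP ⋙ b.sheafPullback A JG J)
    (Functor.whiskerRight (e.sheafAdjunctionContinuous A J₀ J).counit
      (j.sheafPushforwardContinuous A JP J))

include τ ι hT

omit [(j.IsContinuous JP J)] [a.IsContinuous JG JP] in
theorem isIso_counit_app (L : Sheaf J₀ A) :
    IsIso ((e.sheafAdjunctionContinuous A J₀ J).counit.app
      (((a ⋙ j).sheafPushforwardContinuous A JG J ⋙ b.sheafPullback A JG J).obj
        ((e.sheafPullback A J₀ J).obj L))) := by
  have hff := fullyFaithful_sheafPullback (A := A) (J₀ := J₀) (J := J) e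
  haveI := hff.full
  haveI := hff.faithful
  haveI := isIso_etaPlus_app (A := A) (J₀ := J₀) (JG := JG) (J := J) e (a ⋙ j) b d τ ι hT L
  rw [NatTrans.isIso_app_iff_of_iso _ (asIso ((etaPlus (A := A) (JG := JG) (J := J) (a ⋙ j) b d τ ι).app
    ((e.sheafPullback A J₀ J).obj L))).symm]
  change IsIso ((e.sheafAdjunctionContinuous A J₀ J).counit.app ((e.sheafPullback A J₀ J).obj L))
  infer_instance

theorem isIso_zeta_app (L : Sheaf J₀ A) :
    IsIso ((zeta (JP := JP) (JG := JG) (J₀ := J₀) (J := J) e j a b).app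
      ((e.sheafPullback A J₀ J ⋙ j.sheafPushforwardContinuous A JP J).obj L)) := by
  haveI := isIso_counit_app (A := A) (J₀ := J₀) (JG := JG) (J := J) e j a b d τ ι hT L
  exact Functor.map_isIso (j.sheafPushforwardContinuous A JP J)
    ((e.sheafAdjunctionContinuous A J₀ J).counit.app
      (((a ⋙ j).sheafPushforwardContinuous A JG J ⋙ b.sheafPullback A JG J).obj
        ((e.sheafPullback A J₀ J).obj L)))

include hτ in
theorem isIso_etaPart_app (L : Sheaf J₀ A) :
    IsIso ((etaPart (JP := JP) (JG := JG) (J := J) j a b d τP ι).app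
      ((e.sheafPullback A J₀ J ⋙ j.sheafPushforwardContinuous A JP J).obj L)) := by
  haveI := isIso_etaPlus_app (A := A) (J₀ := J₀) (JG := JG) (J := J) e (a ⋙ j) b d τ ι hT L
  have key : (etaPart (JP := JP) (JG := JG) (J := J) j a b d τP ι).app
      ((e.sheafPullback A J₀ J ⋙ j.sheafPushforwardContinuous A JP J).obj L) =
      (j.sheafPushforwardContinuous A JP J).map
        ((etaPlus (A := A) (JG := JG) (J := J) (a ⋙ j) b d τ ι).app
          ((e.sheafPullback A J₀ J).obj L)) := by
    apply Sheaf.hom_ext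
    ext X
    refine (etaGen_app_app ..).trans (Eq.trans ?_ (etaGen_app_app ..).symm)
    dsimp
    simp only [Category.id_comp, Category.comp_id]
    change ((e.sheafPullback A J₀ J).obj L).obj.map (j.map (τP.app X.unop)).op ≫ _ ≫ _ = _
    rw [hτ]
    rfl
  rw [key]
  exact Functor.map_isIso (j.sheafPushforwardContinuous A JP J) _

/-- The retraction `L ≅ S θ L`. -/
noncomputable def retraction : 𝟭 (Sheaf J₀ A) ≅
    (e.sheafPullback A J₀ J ⋙ j.sheafPushforwardContinuous A JP J) ⋙
      (a.sheafPushforwardContinuous A JG JP ⋙ b.sheafPullback A JG J ⋙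
        e.sheafPushforwardContinuous A J₀ J) :=
  haveI hff := fullyFaithful_sheafPullback (A := A) (J₀ := J₀) (J := J) e
  haveI := hff.full
  haveI := hff.faithful
  NatIso.ofComponents
    (fun L =>
      asIso ((e.sheafAdjunctionContinuous A J₀ J).unit.app L) ≪≫
        (e.sheafPushforwardContinuous A J₀ J).mapIso (@asIso _ _ _ _
          ((etaPlus (A := A) (JG := JG) (J := J) (a ⋙ j) b d τ ι).app
            ((e.sheafPullback A J₀ J).obj L))
          (isIso_etaPlus_app (A := A) (J₀ := J₀) (JG := JG) (J := J) e (a ⋙ j) b d τ ι hT L)))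
    (fun {L M} f => by
      have h1 := (e.sheafAdjunctionContinuous A J₀ J).unit.naturality f
      have h2 := (etaPlus (A := A) (JG := JG) (J := J) (a ⋙ j) b d τ ι).naturality
        ((e.sheafPullback A J₀ J).map f)
      simp only [Functor.id_map, Functor.comp_map] at h1 h2
      simp only [Functor.id_map, Iso.trans_hom, Functor.mapIso_hom, asIso_hom, Category.assoc]
      erw [reassoc_of% h1, ← Functor.map_comp, h2, Functor.map_comp]
      rfl)

end Functors

end Groth.FibDescSec
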