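import Groth.Prelude.Def_FibDesc
import Groth.Agent.FibSiteLib.Adjoints
import Groth.Agent.FibDescSecLib.Gen
import Groth.Agent.FibDescSecLib.Derived
import Mathlib.CategoryTheory.Adjunction.Additive

/-! An augmented diagram of spaces with an extra degeneracy is of cohomological descent. -/

set_option backward.isDefEq.respectTransparency false
set_option backward.isDefEq.respectTransparency.types false
set_option linter.style.haveILetI false

universe u v₂ u₂ v₁ u₁

open CategoryTheory CategoryTheory.Limits Opposite TopologicalSpace Pseudofunctor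
  Pseudofunctor.CoGrothendieck

namespace Groth.FibDescSec

noncomputable section

lemma preservesFiniteLimits_sheafPullback {C D : Type u} [SmallCategory C] [SmallCategory D]
    (J : GrothendieckTopology C) (K : GrothendieckTopology D) (G : C ⥤ D) [G.IsContinuous J K]
    [RepresentablyFlat G] :
    PreservesFiniteLimits (G.sheafPullback AddCommGrpCat.{u} J K) := by
  haveI : PreservesFiniteLimits (G.op.lan : (Cᵒᵖ ⥤ AddCommGrpCat.{u}) ⥤ _) :=
    lan_preservesFiniteLimits_of_flat AddCommGrpCat.{u} G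
  exact Functor.sheafPullbackConstruction.preservesFiniteLimits G AddCommGrpCat.{u} J K

section Fib

variable {𝒮 : Type u₁} [Category.{v₁} 𝒮] {F : Pseudofunctor (LocallyDiscrete 𝒮ᵒᵖ) Cat.{v₂, u₂}}
  {J : FibSite.Topologies F} {𝒮' : Type u₁} [Category.{v₁} 𝒮'] (ψ : 𝒮' ⥤ 𝒮)

lemma isPreFibSite_baseChange (hF : FibSite.IsPreFibSite F J) :
    FibSite.IsPreFibSite (FibSite.baseChange F ψ) (FibSite.baseChangeTop J ψ) :=
  fun _ _ f => hF (ψ.map f)

variable (F) in
/-- Fibre inclusions commute with base change. -/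
noncomputable def iotaBaseChangeIso (hthin : ∀ (S : 𝒮) (a b : F.obj ⟨op S⟩), Subsingleton (a ⟶ b))
    (S : 𝒮') : ι (FibSite.baseChange F ψ) S ⋙ FibSite.baseChangeFunctor F ψ ≅ ι F (ψ.obj S) :=
  NatIso.ofComponents (fun _ => Iso.refl _) (fun f => by
    refine CoGrothendieck.Hom.ext _ _ ?_ ?_
    · simp
      exact ψ.map_id _
    · exact @Subsingleton.elim _ (hthin _ _ _) _ _)

variable (hF : FibSite.IsPreFibSite F J)
include hF

lemma isContinuous_baseChangeFunctor (hthin : ∀ (S : 𝒮) (a b : F.obj ⟨op S⟩), Subsingleton (a ⟶ b)) :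
    (FibSite.baseChangeFunctor F ψ).IsContinuous
      (FibSite.totalTopology (FibSite.baseChange F ψ) (FibSite.baseChangeTop J ψ))
      (FibSite.totalTopology F J) := by
  rw [Groth.FibSiteL.isContinuous_iff (isPreFibSite_baseChange ψ hF)]
  intro S
  haveI := Groth.FibSiteL.isContinuous_ι hF (ψ.obj S)
  exact Functor.isContinuous_of_iso (iotaBaseChangeIso F ψ hthin S).symm _ _

lemma isCocontinuous_baseChangeFunctor
    (hthin : ∀ (S : 𝒮) (a b : F.obj ⟨op S⟩), Subsingleton (a ⟶ b)) :
    (FibSite.baseChangeFunctor F ψ).IsCocontinuous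
      (FibSite.totalTopology (FibSite.baseChange F ψ) (FibSite.baseChangeTop J ψ))
      (FibSite.totalTopology F J) where
  cover_lift {X T} hT := by
    obtain ⟨R, hR, hle⟩ := (Groth.FibSiteL.mem_totalTopology_iff hF _ T).1 hT
    rw [Groth.FibSiteL.mem_totalTopology_iff (isPreFibSite_baseChange ψ hF)]
    obtain ⟨S₀, U⟩ := X
    refine ⟨R, hR, ?_⟩
    rintro Y _ ⟨W, r, h, hr, rfl⟩
    change T ((FibSite.baseChangeFunctor F ψ).map (h ≫ (ι (FibSite.baseChange F ψ) S₀).map r))
    rw [Functor.map_comp]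
    apply T.downward_closed
    have e := (iotaBaseChangeIso F ψ hthin S₀).hom.naturality r
    simp only [Functor.comp_map, iotaBaseChangeIso, NatIso.ofComponents_hom_app, Iso.refl_hom,
      Category.comp_id] at e
    erw [e, Category.id_comp]
    exact hle _ (Sieve.image_mem_functorPushforward (ι F (ψ.obj S₀)) R hr)

end Fib

section Top

variable {D : Type} [SmallCategory D] (Y : (WithInitial D)ᵒᵖ ⥤ TopCat.{u})

local notation "AUG" => FibDesc.topAug Y
local notation "PART" => FibDesc.part (FibDesc.topAug Y)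

lemma thin_topAug (S : (WithInitial D)ᵒᵖ) (a b : (AUG).obj ⟨op S⟩) : Subsingleton (a ⟶ b) :=
  inferInstanceAs (Subsingleton ((show Opens (Y.obj S) from a) ⟶ (show Opens (Y.obj S) from b)))

lemma thin_part (S : Dᵒᵖ) (a b : (PART).obj ⟨op S⟩) : Subsingleton (a ⟶ b) :=
  thin_topAug Y ((FibDesc.toAug D).obj S) a b

lemma isPreFibSite_topAug : FibSite.IsPreFibSite (AUG) (FibDesc.topAugTop Y) :=
  fun _ _ f => inferInstanceAs ((Opens.map (Y.map f)).IsContinuous
    (Opens.grothendieckTopology _) (Opens.grothendieckTopology _))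

variable (σ : WithInitial D ⥤ D)

/-- The shifted family. -/
abbrev shiftFam : Pseudofunctor (LocallyDiscrete ((WithInitial D)ᵒᵖ)ᵒᵖ) Cat.{u, u} :=
  FibSite.baseChange (PART) σ.op

/-- Its topologies. -/
abbrev shiftTop : FibSite.Topologies (shiftFam Y σ) :=
  FibSite.baseChangeTop (FibDesc.partTop (AUG) (FibDesc.topAugTop Y)) σ.op

lemma thin_shift (S : (WithInitial D)ᵒᵖ) (a b : (shiftFam Y σ).obj ⟨op S⟩) : Subsingleton (a ⟶ b) :=
  thin_part Y (σ.op.obj S) a b

lemma augExt {A B : ∫ᶜ (AUG)} {f g : A ⟶ B} (h : f.base = g.base) : f = g :=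
  CoGrothendieck.Hom.ext _ _ h (@Subsingleton.elim _ (thin_topAug Y _ _ _) _ _)

lemma partExt {A B : ∫ᶜ (PART)} {f g : A ⟶ B} (h : f.base = g.base) : f = g :=
  CoGrothendieck.Hom.ext _ _ h (@Subsingleton.elim _ (thin_part Y _ _ _) _ _)

lemma shiftExt {A B : ∫ᶜ (shiftFam Y σ)} {f g : A ⟶ B} (h : f.base = g.base) : f = g :=
  CoGrothendieck.Hom.ext _ _ h (@Subsingleton.elim _ (thin_shift Y σ _ _ _) _ _)

/-- An open set of a member of the family, as an object of the total category. -/
abbrev augObj (i : (WithInitial D)ᵒᵖ) (U : Opens (Y.obj i)) : ∫ᶜ (AUG) := ⟨i, U⟩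

/-- The same for the shifted family. -/
abbrev shiftObj (i : (WithInitial D)ᵒᵖ) (U : Opens (Y.obj ((FibDesc.toAug D).obj (σ.op.obj i)))) :
    ∫ᶜ (shiftFam Y σ) := ⟨i, U⟩

abbrev augOpen (A : ∫ᶜ (AUG)) : Opens (Y.obj A.base) := A.fiber

abbrev shiftOpen (A : ∫ᶜ (shiftFam Y σ)) :
    Opens (Y.obj ((FibDesc.toAug D).obj (σ.op.obj A.base))) := A.fiber

lemma aug_le {A B : ∫ᶜ (AUG)} (f : A ⟶ B) :
    augOpen Y A ≤ (Opens.map (Y.map f.base)).obj (augOpen Y B) := leOfHom f.fiber

lemma shift_le {A B : ∫ᶜ (shiftFam Y σ)} (f : A ⟶ B) :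
    shiftOpen Y σ A ≤
      (Opens.map (Y.map ((FibDesc.toAug D).map (σ.op.map f.base)))).obj (shiftOpen Y σ B) :=
  leOfHom f.fiber

/-- Constructor of morphisms of the total category. -/
def augHom {A B : ∫ᶜ (AUG)} (f : A.base ⟶ B.base)
    (h : augOpen Y A ≤ (Opens.map (Y.map f)).obj (augOpen Y B)) : A ⟶ B :=
  ⟨f, (homOfLE h : augOpen Y A ⟶ (Opens.map (Y.map f)).obj (augOpen Y B))⟩

/-- Constructor of morphisms of the shifted total category. -/
def shiftHom {A B : ∫ᶜ (shiftFam Y σ)} (f : A.base ⟶ B.base)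
    (h : shiftOpen Y σ A ≤
      (Opens.map (Y.map ((FibDesc.toAug D).map (σ.op.map f)))).obj (shiftOpen Y σ B)) : A ⟶ B :=
  ⟨f, (homOfLE h : shiftOpen Y σ A ⟶ (Opens.map (Y.map ((FibDesc.toAug D).map (σ.op.map f)))).obj (shiftOpen Y σ B))⟩

variable (s : Y ⟶ (σ.op ⋙ FibDesc.toAug D) ⋙ Y)

lemma s_le {i j : (WithInitial D)ᵒᵖ} (f : i ⟶ j)
    (V : Opens (Y.obj ((FibDesc.toAug D).obj (σ.op.obj i))))
    (W : Opens (Y.obj ((FibDesc.toAug D).obj (σ.op.obj j))))
    (h : V ≤ (Opens.map (Y.map ((FibDesc.toAug D).map (σ.op.map f)))).obj W) :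
    (Opens.map (s.app i)).obj V ≤ (Opens.map (Y.map f)).obj ((Opens.map (s.app j)).obj W) := by
  intro x hx
  have e := ConcreteCategory.congr_hom (s.naturality f) x
  have := h hx
  simp only [TopCat.comp_app, Functor.comp_map] at e
  change (s.app j) ((Y.map f) x) ∈ W
  rw [e]
  exact this

/-- Pullback of open sets along the extra degeneracy. -/
def bFun : ∫ᶜ (shiftFam Y σ) ⥤ ∫ᶜ (AUG) where
  obj A := augObj Y A.base ((Opens.map (s.app A.base)).obj (shiftOpen Y σ A))
  map {A B} f := augHom Y f.base (s_le Y σ s f.base _ _ (shift_le Y σ f))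
  map_id _ := augExt Y rfl
  map_comp _ _ := augExt Y rfl

variable (δ : 𝟭 (WithInitial D) ⟶ σ ⋙ WithInitial.incl)

/-- The face `Y (σ i) ⟶ Y i`. -/
abbrev dMap (i : (WithInitial D)ᵒᵖ) :
    (FibDesc.toAug D).obj (σ.op.obj i) ⟶ i := (δ.app i.unop).op

lemma dMap_naturality {i j : (WithInitial D)ᵒᵖ} (f : i ⟶ j) :
    (FibDesc.toAug D).map (σ.op.map f) ≫ dMap σ δ j = dMap σ δ i ≫ f := by
  apply Quiver.Hom.unop_inj
  exact (δ.naturality f.unop).symm

lemma d_le {i j : (WithInitial D)ᵒᵖ} (f : i ⟶ j) (V : Opens (Y.obj i)) (W : Opens (Y.obj j))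
    (h : V ≤ (Opens.map (Y.map f)).obj W) :
    (Opens.map (Y.map (dMap σ δ i))).obj V ≤
      (Opens.map (Y.map ((FibDesc.toAug D).map (σ.op.map f)))).obj
        ((Opens.map (Y.map (dMap σ δ j))).obj W) := by
  intro x hx
  have e := ConcreteCategory.congr_hom (congrArg Y.map (dMap_naturality σ δ f)) x
  have := h hx
  simp only [Functor.map_comp, TopCat.comp_app] at e
  change (Y.map (dMap σ δ j)) _ ∈ W
  rw [e]
  exact this

/-- Pullback of open sets along the face. -/
def dFun : ∫ᶜ (AUG) ⥤ ∫ᶜ (shiftFam Y σ) where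
  obj A := shiftObj Y σ A.base ((Opens.map (Y.map (dMap σ δ A.base))).obj (augOpen Y A))
  map {A B} f := shiftHom Y σ f.base (d_le Y σ δ f.base _ _ (aug_le Y f))
  map_id _ := shiftExt Y σ rfl
  map_comp _ _ := shiftExt Y σ rfl

/-- Forgetting the augmentation after shifting. -/
abbrev aFun : ∫ᶜ (shiftFam Y σ) ⥤ ∫ᶜ (PART) := FibSite.baseChangeFunctor (PART) σ.op

/-- The face transformation. -/
def tauAug : dFun Y σ δ ⋙ (aFun Y σ ⋙ FibDesc.incl (AUG)) ⟶ 𝟭 _ where
  app A := augHom Y (dMap σ δ A.base) (le_refl ((Opens.map (Y.map (dMap σ δ A.base))).obj (augOpen Y A)))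
  naturality A B f := augExt Y (dMap_naturality σ δ f.base)

/-- The face transformation on the part. -/
def tauPart : (FibDesc.incl (AUG) ⋙ dFun Y σ δ) ⋙ aFun Y σ ⟶ 𝟭 _ where
  app A :=
    ⟨(WithInitial.down (δ.app ((FibDesc.toAug D).obj A.base).unop)).op,
      (homOfLE le_rfl : (Opens.map (Y.map (dMap σ δ ((FibDesc.toAug D).obj A.base)))).obj A.fiber ⟶
        (Opens.map (Y.map (dMap σ δ ((FibDesc.toAug D).obj A.base)))).obj A.fiber)⟩
  naturality A B f := by
    apply partExt Y
    apply Quiver.Hom.unop_inj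
    exact (δ.naturality ((FibDesc.toAug D).map f.base).unop).symm

lemma incl_tauPart (X : ∫ᶜ (PART)) :
    (FibDesc.incl (AUG)).map ((tauPart Y σ δ).app X) =
      (tauAug Y σ δ).app ((FibDesc.incl (AUG)).obj X) :=
  augExt Y rfl

lemma mem_map_id {i : (WithInitial D)ᵒᵖ} (V : Opens (Y.obj i)) (x : Y.obj i) :
    x ∈ (Opens.map (Y.map (𝟙 i))).obj V ↔ x ∈ V := by
  rw [Y.map_id]
  rfl

variable (hs : ∀ i, s.app i ≫ Y.map (dMap σ δ i) = 𝟙 _)
include hs

/-- The section identity as an isomorphism of functors. -/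
def secIso : dFun Y σ δ ⋙ bFun Y σ s ≅ 𝟭 _ :=
  NatIso.ofComponents
    (fun A =>
      { hom := augHom Y (𝟙 A.base) (by
          intro x hx
          have e := ConcreteCategory.congr_hom (hs A.base) x
          simp only [TopCat.comp_app, TopCat.id_app] at e
          refine (mem_map_id Y (augOpen Y A) x).2 ?_
          rw [← e]
          exact hx)
        inv := augHom Y (𝟙 A.base) (by
          intro x hx
          have e := ConcreteCategory.congr_hom (hs A.base) x
          simp only [TopCat.comp_app, TopCat.id_app] at e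
          refine (mem_map_id Y (augOpen Y ((dFun Y σ δ ⋙ bFun Y σ s).obj A)) x).2 ?_
          exact (congrArg (fun y => y ∈ augOpen Y A) e).mpr hx)
        hom_inv_id := augExt Y (Category.comp_id _)
        inv_hom_id := augExt Y (Category.comp_id _) })
    (fun f => augExt Y ((Category.comp_id _).trans (Category.id_comp _).symm))

omit hs

/-- The base point is final. -/
def isTerminalBot : IsTerminal (FibDesc.bot D) :=
  terminalOpOfInitial WithInitial.starInitial

lemma flat_eps : RepresentablyFlat (FibDesc.eps (AUG)) where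
  cofiltered A := by
    let t := (isTerminalBot (D := D)).from A.base
    haveI : Nonempty (StructuredArrow A (FibDesc.eps (AUG))) :=
      ⟨StructuredArrow.mk (S := A) (T := FibDesc.eps (AUG)) (Y := (⊤ : Opens (Y.obj (FibDesc.bot D))))
        (augHom Y t (fun x _ => trivial) :
          A ⟶ (FibDesc.eps (AUG)).obj (⊤ : Opens (Y.obj (FibDesc.bot D))))⟩
    haveI : IsCofilteredOrEmpty (StructuredArrow A (FibDesc.eps (AUG))) := by
      refine ⟨fun P Q => ?_, fun {P Q} f g => ?_⟩
      · let W : Opens (Y.obj (FibDesc.bot D)) :=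
          (show Opens (Y.obj (FibDesc.bot D)) from P.right) ⊓
            (show Opens (Y.obj (FibDesc.bot D)) from Q.right)
        refine ⟨StructuredArrow.mk (S := A) (T := FibDesc.eps (AUG)) (Y := W)
          (augHom Y t ?_ : A ⟶ (FibDesc.eps (AUG)).obj W),
          StructuredArrow.homMk (homOfLE inf_le_left) (augExt Y ((isTerminalBot (D := D)).hom_ext _ _)),
          StructuredArrow.homMk (homOfLE inf_le_right) (augExt Y ((isTerminalBot (D := D)).hom_ext _ _)),
          trivial⟩
        intro x hx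
        have h₁ := aug_le Y P.hom hx
        have h₂ := aug_le Y Q.hom hx
        rw [(isTerminalBot (D := D)).hom_ext P.hom.base t] at h₁
        rw [(isTerminalBot (D := D)).hom_ext Q.hom.base t] at h₂
        exact ⟨h₁, h₂⟩
      · exact ⟨P, 𝟙 P, StructuredArrow.hom_ext _ _ (@Subsingleton.elim _ (thin_topAug Y _ _ _) _ _)⟩
    exact {}

lemma flat_bFun : RepresentablyFlat (bFun Y σ s) where
  cofiltered A := by
    haveI : Nonempty (StructuredArrow A (bFun Y σ s)) :=
      ⟨StructuredArrow.mk (Y := shiftObj Y σ A.base ⊤)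
        (augHom Y (𝟙 A.base) (fun x _ => trivial) :
          A ⟶ (bFun Y σ s).obj (shiftObj Y σ A.base ⊤))⟩
    let pre (P : StructuredArrow A (bFun Y σ s)) :
        Opens (Y.obj ((FibDesc.toAug D).obj (σ.op.obj A.base))) :=
      (Opens.map (Y.map ((FibDesc.toAug D).map (σ.op.map P.hom.base)))).obj (shiftOpen Y σ P.right)
    have hpre : ∀ (P : StructuredArrow A (bFun Y σ s)) x, x ∈ augOpen Y A →
        s.app A.base x ∈ pre P := by
      intro P x hx
      have h₁ := aug_le Y P.hom hx
      have e := ConcreteCategory.congr_hom (s.naturality P.hom.base) x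
      simp only [TopCat.comp_app, Functor.comp_map] at e
      exact (congrArg (fun y => y ∈ shiftOpen Y σ P.right) e).mp h₁
    haveI : IsCofilteredOrEmpty (StructuredArrow A (bFun Y σ s)) := by
      refine ⟨fun P Q => ?_, fun {P Q} f g => ?_⟩
      · refine ⟨StructuredArrow.mk (Y := shiftObj Y σ A.base (pre P ⊓ pre Q))
          (augHom Y (𝟙 A.base) ?_ : A ⟶ (bFun Y σ s).obj (shiftObj Y σ A.base (pre P ⊓ pre Q))),
          StructuredArrow.homMk (shiftHom Y σ P.hom.base
            (inf_le_left : pre P ⊓ pre Q ≤ pre P)) (augExt Y (Category.id_comp _)),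
          StructuredArrow.homMk (shiftHom Y σ Q.hom.base
            (inf_le_right : pre P ⊓ pre Q ≤ pre Q)) (augExt Y (Category.id_comp _)),
          trivial⟩
        intro x hx
        exact (mem_map_id Y _ x).2 ⟨hpre P x hx, hpre Q x hx⟩
      · refine ⟨StructuredArrow.mk (Y := shiftObj Y σ A.base (pre P))
          (augHom Y (𝟙 A.base) ?_ : A ⟶ (bFun Y σ s).obj (shiftObj Y σ A.base (pre P))),
          StructuredArrow.homMk (shiftHom Y σ P.hom.base le_rfl) (augExt Y (Category.id_comp _)),
          StructuredArrow.hom_ext _ _ (shiftExt Y σ ?_)⟩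
        · intro x hx
          exact (mem_map_id Y _ x).2 (hpre P x hx)
        · have hf : P.hom.base ≫ f.right.base = Q.hom.base :=
            congrArg CoGrothendieck.Hom.base (StructuredArrow.w f)
          have hg : P.hom.base ≫ g.right.base = Q.hom.base :=
            congrArg CoGrothendieck.Hom.base (StructuredArrow.w g)
          exact hf.trans hg.symm
    exact {}

lemma isContinuous_bFun :
    (bFun Y σ s).IsContinuous (FibSite.totalTopology (shiftFam Y σ) (shiftTop Y σ))
      (FibSite.totalTopology (AUG) (FibDesc.topAugTop Y)) := by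
  rw [Groth.FibSiteL.isContinuous_iff
    (isPreFibSite_baseChange σ.op (isPreFibSite_baseChange (FibDesc.toAug D) (isPreFibSite_topAug Y)))]
  intro i
  haveI := Groth.FibSiteL.isContinuous_ι (isPreFibSite_topAug Y) i
  let m : Opens (Y.obj ((FibDesc.toAug D).obj (σ.op.obj i))) ⥤ Opens (Y.obj i) :=
    Opens.map (s.app i)
  let iso : m ⋙ ι (AUG) i ≅ ι (shiftFam Y σ) i ⋙ bFun Y σ s :=
    NatIso.ofComponents (fun _ => Iso.refl _)
      (fun f => augExt Y ((Category.comp_id _).trans (Category.id_comp _).symm))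
  haveI : m.IsContinuous (shiftTop Y σ i) (FibDesc.topAugTop Y i) :=
    inferInstanceAs ((Opens.map (s.app i)).IsContinuous (Opens.grothendieckTopology _)
      (Opens.grothendieckTopology _))
  haveI := Functor.isContinuous_comp m (ι (AUG) i) (shiftTop Y σ i) (FibDesc.topAugTop Y i)
    (FibSite.totalTopology (AUG) (FibDesc.topAugTop Y))
  exact Functor.isContinuous_of_iso iso _ _

lemma isContinuous_eps_dFun :
    (FibDesc.eps (AUG) ⋙ dFun Y σ δ).IsContinuous (FibDesc.topAugTop Y (FibDesc.bot D))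
      (FibSite.totalTopology (shiftFam Y σ) (shiftTop Y σ)) := by
  have hG := isPreFibSite_baseChange σ.op
    (isPreFibSite_baseChange (FibDesc.toAug D) (isPreFibSite_topAug Y))
  haveI := Groth.FibSiteL.isContinuous_ι hG (FibDesc.bot D)
  let m : Opens (Y.obj (FibDesc.bot D)) ⥤
      Opens (Y.obj ((FibDesc.toAug D).obj (σ.op.obj (FibDesc.bot D)))) :=
    Opens.map (Y.map (dMap σ δ (FibDesc.bot D)))
  let iso : m ⋙ ι (shiftFam Y σ) (FibDesc.bot D) ≅ FibDesc.eps (AUG) ⋙ dFun Y σ δ :=
    NatIso.ofComponents (fun _ => Iso.refl _)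
      (fun f => shiftExt Y σ ((Category.comp_id _).trans (Category.id_comp _).symm))
  haveI : m.IsContinuous (FibDesc.topAugTop Y (FibDesc.bot D)) (shiftTop Y σ (FibDesc.bot D)) :=
    inferInstanceAs ((Opens.map (Y.map (dMap σ δ (FibDesc.bot D)))).IsContinuous
      (Opens.grothendieckTopology _) (Opens.grothendieckTopology _))
  haveI := Functor.isContinuous_comp m (ι (shiftFam Y σ) (FibDesc.bot D))
    (FibDesc.topAugTop Y (FibDesc.bot D)) (shiftTop Y σ (FibDesc.bot D))
    (FibSite.totalTopology (shiftFam Y σ) (shiftTop Y σ))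
  exact Functor.isContinuous_of_iso iso _ _

lemma terminal_section (U : Opens (Y.obj (FibDesc.bot D))) (A : ∫ᶜ (shiftFam Y σ))
    (g : (aFun Y σ ⋙ FibDesc.incl (AUG)).obj A ⟶ (FibDesc.eps (AUG)).obj U) :
    ∃! f : A ⟶ (dFun Y σ δ).obj ((FibDesc.eps (AUG)).obj U),
      (aFun Y σ ⋙ FibDesc.incl (AUG)).map f ≫ (tauAug Y σ δ).app _ = g := by
  refine ⟨shiftHom Y σ ((isTerminalBot (D := D)).from A.base) ?_,
    augExt Y ((isTerminalBot (D := D)).hom_ext _ _), fun f _ => shiftExt Y σ
      ((isTerminalBot (D := D)).hom_ext _ _)⟩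
  intro x hx
  have h := aug_le Y g hx
  rw [(isTerminalBot (D := D)).hom_ext g.base ((FibDesc.toAug D).map
    (σ.op.map ((isTerminalBot (D := D)).from A.base)) ≫ dMap σ δ (FibDesc.bot D)),
    Y.map_comp] at h
  exact h

variable [Small.{u} D]
include s δ hs

/-- An augmented diagram of spaces with an extra degeneracy is of cohomological descent. -/
theorem isCohDescentTop_of_extraDegeneracy
    [HasSheafify (FibDesc.topAugTop Y (FibDesc.bot D)) AddCommGrpCat.{u}]
    [HasSheafify (FibDesc.totPart (AUG) (FibDesc.topAugTop Y)) AddCommGrpCat.{u}] :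
    FibDesc.IsCohDescentTop Y := by
  let J₀ := FibDesc.topAugTop Y (FibDesc.bot D)
  let J := FibDesc.totAug (AUG) (FibDesc.topAugTop Y)
  let JP := FibDesc.totPart (AUG) (FibDesc.topAugTop Y)
  let JG := FibSite.totalTopology (shiftFam Y σ) (shiftTop Y σ)
  let e := FibDesc.eps (AUG)
  let j := FibDesc.incl (AUG)
  let a := aFun Y σ
  let b := bFun Y σ s
  let d := dFun Y σ δ
  have hA := isPreFibSite_topAug Y
  have hP := isPreFibSite_baseChange (FibDesc.toAug D) hA
  haveI : e.IsContinuous J₀ J := Groth.FibSiteL.isContinuous_ι hA _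
  haveI : e.IsCocontinuous J₀ J := Groth.FibSiteL.isCocontinuous_ι hA _
  haveI : e.Full := ⟨fun g => Groth.FibSiteL.exists_ι_map_eq g ((isTerminalBot (D := D)).hom_ext _ _)⟩
  haveI : e.Faithful := Groth.FibSiteL.faithful_ι _
  haveI : j.IsContinuous JP J := isContinuous_baseChangeFunctor _ hA (thin_topAug Y)
  haveI : j.IsCocontinuous JP J := isCocontinuous_baseChangeFunctor _ hA (thin_topAug Y)
  haveI : a.IsContinuous JG JP := isContinuous_baseChangeFunctor _ hP (thin_part Y)
  haveI : a.IsCocontinuous JG JP := isCocontinuous_baseChangeFunctor _ hP (thin_part Y)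
  haveI : (a ⋙ j).IsContinuous JG J := Functor.isContinuous_comp a j JG JP J
  haveI : (a ⋙ j).IsCocontinuous JG J := isCocontinuous_comp a j JG JP (L := J)
  haveI : b.IsContinuous JG J := isContinuous_bFun Y σ s
  haveI : (e ⋙ d).IsContinuous J₀ JG := isContinuous_eps_dFun Y σ δ
  haveI : RepresentablyFlat e := flat_eps Y
  haveI : RepresentablyFlat b := flat_bFun Y σ s
  haveI : (e.sheafPushforwardContinuous AddCommGrpCat.{u} J₀ J).IsRightAdjoint := inferInstance
  haveI : (b.sheafPushforwardContinuous AddCommGrpCat.{u} JG J).IsRightAdjoint := inferInstance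
  haveI : ((e ⋙ d).sheafPushforwardContinuous AddCommGrpCat.{u} J₀ JG).IsRightAdjoint :=
    inferInstance
  haveI : ∀ P, j.op.HasPointwiseRightKanExtension (H := AddCommGrpCat.{u}) P := inferInstance
  haveI : PreservesFiniteLimits (e.sheafPullback AddCommGrpCat.{u} J₀ J) :=
    preservesFiniteLimits_sheafPullback J₀ J e
  haveI : PreservesFiniteLimits (b.sheafPullback AddCommGrpCat.{u} JG J) :=
    preservesFiniteLimits_sheafPullback JG J b
  haveI : (e.sheafPushforwardContinuous AddCommGrpCat.{u} J₀ J).IsLeftAdjoint :=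
    (e.sheafAdjunctionCocontinuous _ J₀ J).isLeftAdjoint
  haveI : (j.sheafPushforwardContinuous AddCommGrpCat.{u} JP J).IsLeftAdjoint :=
    (j.sheafAdjunctionCocontinuous _ JP J).isLeftAdjoint
  haveI : (a.sheafPushforwardContinuous AddCommGrpCat.{u} JG JP).IsLeftAdjoint :=
    (a.sheafAdjunctionCocontinuous _ JG JP).isLeftAdjoint
  haveI : (j.sheafPushforwardContinuous AddCommGrpCat.{u} JP J).IsRightAdjoint := inferInstance
  haveI : (a.sheafPushforwardContinuous AddCommGrpCat.{u} JG JP).IsRightAdjoint := inferInstance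
  haveI : PreservesFiniteLimits (FibDesc.pull (AUG) (FibDesc.topAugTop Y) AddCommGrpCat.{u}) :=
    comp_preservesFiniteLimits _ _
  refine ⟨inferInstance, inferInstance, inferInstance, inferInstance, inferInstance, inferInstance,
    fun K L => ?_⟩
  let θ := e.sheafPullback AddCommGrpCat.{u} J₀ J ⋙
    j.sheafPushforwardContinuous AddCommGrpCat.{u} JP J
  let S := a.sheafPushforwardContinuous AddCommGrpCat.{u} JG JP ⋙
    b.sheafPullback AddCommGrpCat.{u} JG J ⋙ e.sheafPushforwardContinuous AddCommGrpCat.{u} J₀ J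
  let T := a.sheafPushforwardContinuous AddCommGrpCat.{u} JG JP ⋙
    b.sheafPullback AddCommGrpCat.{u} JG J ⋙ j.sheafPushforwardContinuous AddCommGrpCat.{u} JP J
  haveI : PreservesFiniteColimits (e.sheafPullback AddCommGrpCat.{u} J₀ J) :=
    haveI : PreservesColimitsOfSize.{0, 0} (e.sheafPullback AddCommGrpCat.{u} J₀ J) :=
      (e.sheafAdjunctionContinuous AddCommGrpCat.{u} J₀ J).leftAdjoint_preservesColimits
    PreservesColimitsOfSize.preservesFiniteColimits _
  haveI : PreservesFiniteColimits (b.sheafPullback AddCommGrpCat.{u} JG J) :=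
    haveI : PreservesColimitsOfSize.{0, 0} (b.sheafPullback AddCommGrpCat.{u} JG J) :=
      (b.sheafAdjunctionContinuous AddCommGrpCat.{u} JG J).leftAdjoint_preservesColimits
    PreservesColimitsOfSize.preservesFiniteColimits _
  haveI : PreservesFiniteLimits θ := comp_preservesFiniteLimits _ _
  haveI : PreservesFiniteColimits θ := comp_preservesFiniteColimits _ _
  haveI : θ.Additive := Functor.additive_of_preserves_binary_products θ
  haveI : PreservesFiniteLimits (b.sheafPullback AddCommGrpCat.{u} JG J ⋙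
      e.sheafPushforwardContinuous AddCommGrpCat.{u} J₀ J) := comp_preservesFiniteLimits _ _
  haveI : PreservesFiniteLimits S := comp_preservesFiniteLimits _ _
  haveI : PreservesFiniteColimits (b.sheafPullback AddCommGrpCat.{u} JG J ⋙
      e.sheafPushforwardContinuous AddCommGrpCat.{u} J₀ J) := comp_preservesFiniteColimits _ _
  haveI : PreservesFiniteColimits S := comp_preservesFiniteColimits _ _
  haveI : PreservesFiniteLimits (b.sheafPullback AddCommGrpCat.{u} JG J ⋙
      j.sheafPushforwardContinuous AddCommGrpCat.{u} JP J) := comp_preservesFiniteLimits _ _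
  haveI : PreservesFiniteLimits T := comp_preservesFiniteLimits _ _
  haveI : PreservesFiniteColimits (b.sheafPullback AddCommGrpCat.{u} JG J ⋙
      j.sheafPushforwardContinuous AddCommGrpCat.{u} JP J) := comp_preservesFiniteColimits _ _
  haveI : PreservesFiniteColimits T := comp_preservesFiniteColimits _ _
  haveI : S.Additive := Functor.additive_of_preserves_binary_products S
  haveI : T.Additive := Functor.additive_of_preserves_binary_products T
  have hτ := incl_tauPart Y σ δ
  have hT := terminal_section Y σ δ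
  letI := HasDerivedCategory.standard (FibDesc.BaseSh (AUG) (FibDesc.topAugTop Y) AddCommGrpCat.{u})
  letI := HasDerivedCategory.standard (FibDesc.DSh (AUG) (FibDesc.topAugTop Y) AddCommGrpCat.{u})
  exact bijective_mapDerivedCategory θ S T
    (retraction (A := AddCommGrpCat.{u}) (JP := JP) (JG := JG) e j a b d (tauAug Y σ δ)
      (secIso Y σ s δ hs) hT)
    (etaPart (JP := JP) (JG := JG) (J := J) j a b d (tauPart Y σ δ) (secIso Y σ s δ hs))
    (zeta (JP := JP) (JG := JG) (J₀ := J₀) (J := J) e j a b)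
    (hη := isIso_etaPart_app e j a b d (tauAug Y σ δ) (tauPart Y σ δ) (secIso Y σ s δ hs) hτ hT)
    (hζ := isIso_zeta_app e j a b d (tauAug Y σ δ) (secIso Y σ s δ hs) hT) K.obj L.obj

end Top

end

end Groth.FibDescSec
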