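import Groth.Agent.FibDescSecLib.TopTot

/-! The augmented Cech nerve of a map with a section has an extra degeneracy. -/

set_option backward.isDefEq.respectTransparency false
set_option backward.isDefEq.respectTransparency.types false
set_option linter.style.haveILetI false

universe u

open CategoryTheory CategoryTheory.Limits Opposite Simplicial

namespace Groth.FibDescSec

noncomputable section

/-- Adjoin a least element. -/
def coneHom {n m : SimplexCategory} (f : n ⟶ m) : ⦋n.len + 1⦌ ⟶ ⦋m.len + 1⦌ :=
  SimplexCategory.Hom.mk
    { toFun := Fin.cases 0 (fun i => (f.toOrderHom i).succ)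
      monotone' := by
        intro a b h
        induction a using Fin.cases with
        | zero => simp
        | succ a =>
          induction b using Fin.cases with
          | zero => simp at h
          | succ b => simpa using f.toOrderHom.monotone (by simpa using h) }

/-- The functor adjoining a least element. -/
def coneF : SimplexCategory ⥤ SimplexCategory where
  obj n := ⦋n.len + 1⦌
  map f := coneHom f
  map_id n := by
    apply SimplexCategory.Hom.ext
    refine OrderHom.ext _ _ (funext fun a => ?_)
    induction a using Fin.cases <;> simp [coneHom]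
  map_comp f g := by
    apply SimplexCategory.Hom.ext
    refine OrderHom.ext _ _ (funext fun a => ?_)
    induction a using Fin.cases <;> simp [coneHom]

/-- The same on augmented simplices. -/
def coneAug : WithInitial SimplexCategory ⥤ SimplexCategory :=
  WithInitial.lift (Z := ⦋0⦌) coneF (fun n => SimplexCategory.const ⦋0⦌ ⦋n.len + 1⦌ 0)
    (fun x y f => by
      apply SimplexCategory.Hom.ext
      refine OrderHom.ext _ _ (funext fun a => ?_)
      simp [coneF, coneHom, SimplexCategory.const])

/-- The face omitting the new element. -/
def faceAug : 𝟭 (WithInitial SimplexCategory) ⟶ coneAug ⋙ WithInitial.incl where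
  app i :=
    match i with
    | .of n => WithInitial.incl.map (SimplexCategory.δ (n := n.len) 0)
    | .star => WithInitial.starInitial.to _
  naturality i j f := by
    match i, j, f with
    | .of n, .of m, f =>
      suffices h : WithInitial.down f ≫ SimplexCategory.δ (n := m.len) 0 =
        SimplexCategory.δ (n := n.len) 0 ≫ coneHom (WithInitial.down f) from
        congrArg (fun q => (WithInitial.incl.map q : WithInitial.of n ⟶ WithInitial.of (⦋m.len + 1⦌))) h
      apply SimplexCategory.Hom.ext
      refine OrderHom.ext _ _ (funext fun a => ?_)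
      simp [coneHom, SimplexCategory.δ]
    | .star, _, f => exact WithInitial.starInitial.hom_ext _ _

variable {X S : TopCat.{u}} (f : X ⟶ S) (sec : S ⟶ X) (h : sec ≫ f = 𝟙 S)

local notation "YC" => FibDesc.cechAug f

/-- Members of the nerve. -/
abbrev cechObj (n : SimplexCategory) : TopCat.{u} :=
  widePullback.{0} S (fun _ : Fin (n.len + 1) => X) fun _ => f

/-- Structure maps of the nerve. -/
def cechMap {m n : SimplexCategory} (φ : m ⟶ n) : cechObj f n ⟶ cechObj f m :=
  WidePullback.lift (WidePullback.base _) (fun k => WidePullback.π _ (φ.toOrderHom k))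
    (fun k => WidePullback.π_arrow _ _)

/-- The extra degeneracy. -/
def extraDeg (h : sec ≫ f = 𝟙 S) :
    YC ⟶ (coneAug.op ⋙ FibDesc.toAug SimplexCategory) ⋙ YC where
  app i :=
    match i with
    | ⟨.of n⟩ =>
      (WidePullback.lift (WidePullback.base _ : cechObj f n ⟶ S)
        (Fin.cases ((WidePullback.base _ : cechObj f n ⟶ S) ≫ sec) (fun k => WidePullback.π _ k))
        (fun k => by
          induction k using Fin.cases with
          | zero => simp [h]
          | succ k => simp) : cechObj f n ⟶ cechObj f ⦋n.len + 1⦌)
    | ⟨.star⟩ =>
      (WidePullback.lift (𝟙 S) (fun _ => sec) (fun _ => h) : S ⟶ cechObj f ⦋0⦌)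
  naturality i j g := by
    obtain ⟨i⟩ := i
    obtain ⟨j⟩ := j
    obtain ⟨g, rfl⟩ : ∃ q : j ⟶ i, g = q.op := ⟨g.unop, rfl⟩
    match i, j, g with
    | .of n, .of m, g =>
      change cechMap f (g : m ⟶ n) ≫
        WidePullback.lift (WidePullback.base _ : cechObj f m ⟶ S) _ _ =
        WidePullback.lift (WidePullback.base _ : cechObj f n ⟶ S) _ _ ≫
        cechMap f (coneHom (g : m ⟶ n))
      apply WidePullback.hom_ext
      · intro k
        induction k using Fin.cases with
        | zero => simp [coneHom, cechMap]
        | succ k => simp [coneHom, cechMap]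
      · simp [cechMap]
    | .of n, .star, g =>
      change (WidePullback.base _ : cechObj f n ⟶ S) ≫ WidePullback.lift (𝟙 S) (fun _ => sec) _ =
        WidePullback.lift (WidePullback.base _ : cechObj f n ⟶ S) _ _ ≫
        cechMap f (SimplexCategory.const ⦋0⦌ ⦋n.len + 1⦌ 0)
      apply WidePullback.hom_ext
      · intro k
        simp [SimplexCategory.const, cechMap]
      · simp [cechMap]
    | .star, .of m, g => exact (WithInitial.false_of_to_star g).elim
    | .star, .star, g =>
      have hg : g = 𝟙 _ := WithInitial.starInitial.hom_ext _ _
      subst hg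
      exact ((congrArg (· ≫ _) (CategoryTheory.Functor.map_id _ _)).trans (Category.id_comp _)).trans
        ((congrArg (_ ≫ ·) (CategoryTheory.Functor.map_id _ _)).trans (Category.comp_id _)).symm

lemma extraDeg_face (i : (WithInitial SimplexCategory)ᵒᵖ) :
    (extraDeg f sec h).app i ≫ (YC).map (dMap coneAug faceAug i) = 𝟙 _ := by
  obtain ⟨i⟩ := i
  match i with
  | .of n =>
    change WidePullback.lift (WidePullback.base _ : cechObj f n ⟶ S) _ _ ≫
      cechMap f (SimplexCategory.δ (n := n.len) 0) = 𝟙 (cechObj f n)
    apply WidePullback.hom_ext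
    · intro k
      simp [SimplexCategory.δ, cechMap]
    · simp [cechMap]
  | .star =>
    change WidePullback.lift (𝟙 S) (fun _ => sec) _ ≫ (WidePullback.base _ : cechObj f ⦋0⦌ ⟶ S) = 𝟙 S
    simp

include h in
theorem isCohDescentMap_of_section : FibDesc.IsCohDescentMap f :=
  isCohDescentTop_of_extraDegeneracy (FibDesc.cechAug f) coneAug (extraDeg f sec h) faceAug
    (extraDeg_face f sec h)

end

end Groth.FibDescSec
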